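import Cfsg.Agent.H251.Small.Num
import Cfsg.Agent.H393.SpTool
import Cfsg.Agent.H424.Spr.Two

/-!
# `U₅(2)`: 3/2-generation, the group theory (helper775, task 4833, for S3938)

A simple group `L` of order 13685760 in which the subgroups of order 11 are self-centralising, the proper subgroups of
order divisible by 11 have order dividing 13200, and the involutions inverting an element of order 5 generate with it a
dihedral group of order 10 : the proper subgroups over an element of order 11 lie in one proper subgroup.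
-/

set_option autoImplicit false
set_option linter.unusedSectionVars false

namespace Cfsg.Agent.H775.Spr

open Subgroup
open Cfsg.Agent.H424.Spr (Spr spr_of_one)

/-- a subgroup of order 11 in a group of order 132 with a subgroup of index 12 as normaliser -/
theorem no_132 {G : Type*} [Group G] [Finite G] (hG : Nat.card G = 132)
    (hc : ∀ P : Subgroup G, Nat.card P = 11 → Nat.card (centralizer (P : Set G)) ∣ 11)
    (S : Sylow 11 G) (hS : Nat.card S = 11) (hN : Nat.card (normalizer (S : Set G)) = 11) : False := by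
  have h11 : Fact (Nat.Prime 11) := ⟨by norm_num⟩
  have h3 : Fact (Nat.Prime 3) := ⟨by norm_num⟩
  have hcy : IsCyclic S := isCyclic_of_prime_card (p := 11) hS
  have hNS : (S : Subgroup G) = normalizer (S : Set G) :=
    Subgroup.eq_of_le_of_card_ge le_normalizer (by rw [hN]; exact hS.ge)
  have hle : normalizer (S : Set G) ≤ centralizer (S : Set G) := by
    rw [← hNS]
    intro x hx
    rw [mem_centralizer_iff]
    intro y hy
    exact congrArg Subtype.val (hcy.isMulCommutative.is_comm.comm (⟨y, hy⟩ : S) ⟨x, hx⟩)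
  have hcomp := MonoidHom.ker_transferSylow_isComplement' S hle
  set Q := (MonoidHom.transferSylow S hle).ker with hQ
  have hQn : Q.Normal := inferInstance
  have hQc : Nat.card Q * 11 = 132 := by
    have h := hcomp.card_mul_card
    rw [hG] at h
    have h' : Nat.card (S : Subgroup G) = 11 := hS
    rwa [h'] at h
  have hQ12 : Nat.card Q = 12 := by omega
  have hQi : Q.index = 11 := by
    have := Q.card_mul_index
    rw [hQ12, hG] at this
    omega
  obtain ⟨R⟩ : Nonempty (Sylow 3 Q) := inferInstance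
  have hR : Nat.card R = 3 := by
    rw [R.card_eq_multiplicity, hQ12]
    have : (12 : ℕ).factorization 3 = 1 := by
      rw [show (12 : ℕ) = 2 ^ 2 * 3 by norm_num, Nat.factorization_mul (by norm_num) (by norm_num), Nat.factorization_pow]
      simp [Nat.prime_two.factorization, Nat.prime_three.factorization]
    rw [this, pow_one]
  set R' : Subgroup G := (R : Subgroup Q).map Q.subtype with hR'
  have hR'c : Nat.card R' = 3 := by
    rw [hR', Subgroup.card_map_of_injective Q.subtype_injective]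
    exact hR
  have hsup := Sylow.normalizer_sup_eq_top R
  have h1 : Q.relIndex (normalizer (R' : Set G)) = 11 := by
    rw [← relIndex_sup_right, hsup, relIndex_top_right, hQi]
  have h2 : 11 ∣ Nat.card (normalizer (R' : Set G)) := by
    rw [← h1]
    exact relIndex_dvd_card _ _
  have h4 := Cfsg.Agent.H393.Sp.card_normalizer_dvd (p := 3) (by norm_num) hR'c
  have h5 : 11 ∣ Nat.card (centralizer (R' : Set G)) := by
    rcases (Nat.Prime.dvd_mul (by norm_num)).1 (h2.trans h4) with h | h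
    · exact h
    · norm_num at h
  obtain ⟨g, hg⟩ := exists_prime_orderOf_dvd_card' (G := centralizer (R' : Set G)) 11 h5
  have hgo : Nat.card (zpowers (g : G)) = 11 := by
    rw [Nat.card_zpowers, Subgroup.orderOf_coe, hg]
  have h6 : R' ≤ centralizer (zpowers (g : G) : Set G) := by
    intro x hx
    rw [mem_centralizer_iff]
    rintro _ ⟨k, rfl⟩
    have h7 := mem_centralizer_iff.1 g.2 x hx
    exact ((show Commute x (g : G) from h7).zpow_right k).symm.eq
  have h7 := (Subgroup.card_dvd_of_le h6).trans (hc _ hgo)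
  rw [hR'c] at h7
  norm_num at h7

variable {L : Type*} [Group L] [Finite L]

section step

variable (hcard : Nat.card L = 13685760)
  (h11 : ∀ M : Subgroup L, M ≠ ⊤ → 11 ∣ Nat.card M → Nat.card M ∣ 13200)
  (hcn : ∀ P : Subgroup L, Nat.card P = 11 → Nat.card (centralizer (P : Set L)) ∣ 11 ∧
    Nat.card (normalizer (P : Set L)) ∣ 55)

include hcard h11 hcn

/-- the proper subgroups over a subgroup of order 11 -/
theorem over_eleven {S K : Subgroup L} (hS : Nat.card S = 11) (hSK : S ≤ K) (hK : K ≠ ⊤) :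
    K ≤ normalizer (S : Set L) ∨ (Nat.card K = 660 ∧ normalizer (S : Set L) ≤ K ∧
      Nat.card (normalizer (S : Set L)) = 55) := by
  have hf : Fact (Nat.Prime 11) := ⟨by norm_num⟩
  have hSd : 11 ∣ Nat.card K := by rw [← hS]; exact Subgroup.card_dvd_of_le hSK
  have hKd : Nat.card K ∣ 2640 := by
    have h0 := K.card_subgroup_dvd_card
    rw [hcard] at h0
    exact (Nat.dvd_gcd (h11 K hK hSd) h0).trans (by norm_num)
  -- the Sylow subgroup
  set S' : Subgroup K := S.subgroupOf K with hS'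
  have hS'c : Nat.card S' = 11 := by rw [← hS]; exact Nat.card_congr (subgroupOfEquivOfLe hSK).toEquiv
  have hn121 : ¬ 11 ^ 2 ∣ Nat.card K := fun h => by
    have := h.trans hKd
    norm_num at this
  obtain ⟨P, hP⟩ : ∃ P : Sylow 11 K, (P : Subgroup K) = S' := by
    have h3 : IsPGroup 11 S' := IsPGroup.of_card (n := 1) (by rw [hS'c, pow_one])
    obtain ⟨P, hP⟩ := h3.exists_le_sylow
    refine ⟨P, ?_⟩
    have h4 : Nat.card P ∣ 11 := by
      obtain ⟨k, hk⟩ := IsPGroup.iff_card.1 P.2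
      have h5 : Nat.card P ∣ Nat.card K := Subgroup.card_subgroup_dvd_card _
      rw [hk] at h5 ⊢
      have h6 : k < 2 := by
        by_contra hcon
        push Not at hcon
        exact hn121 ((pow_dvd_pow 11 hcon).trans h5)
      interval_cases k
      · simp
      · simp
    exact (Subgroup.eq_of_le_of_card_ge hP (by rw [hS'c]; exact Nat.le_of_dvd (by norm_num) h4)).symm
  have hmod := card_sylow_modEq_one 11 K
  rw [Sylow.card_eq_index_normalizer P] at hmod
  have hPc : Nat.card P = 11 := by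
    have : Nat.card P = Nat.card (P : Subgroup K) := rfl
    rw [this, hP, hS'c]
  -- the normaliser
  have hnle : (normalizer (P : Set K)).map K.subtype ≤ normalizer (S : Set L) := by
    rintro _ ⟨x, hx, rfl⟩
    rw [Subgroup.mem_normalizer_iff]
    have hx' : x ∈ normalizer ((P : Subgroup K) : Set K) := hx
    rw [Subgroup.mem_normalizer_iff, hP] at hx'
    intro h
    constructor
    · intro hh
      exact (hx' ⟨h, hSK hh⟩).1 (mem_subgroupOf.2 hh)
    · intro hh
      have hK' : h ∈ K := by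
        have h1 := K.mul_mem (K.mul_mem (K.inv_mem x.2) (hSK hh)) x.2
        have e : ((x : L))⁻¹ * ((x : L) * h * (x : L)⁻¹) * (x : L) = h := by group
        rwa [show ((x : L))⁻¹ * (K.subtype x * h * (K.subtype x)⁻¹) * (x : L) = h from e] at h1
      exact mem_subgroupOf.1 ((hx' ⟨h, hK'⟩).2 (mem_subgroupOf.2 hh))
  have hNc : Nat.card (normalizer (P : Set K)) ∣ 55 := by
    have h1 := (Subgroup.card_dvd_of_le hnle).trans (hcn S hS).2
    rwa [Subgroup.card_map_of_injective K.subtype_injective] at h1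
  have hNd : 11 ∣ Nat.card (normalizer (P : Set K)) := by
    have h1 : Nat.card P ∣ Nat.card (normalizer (P : Set K)) := Subgroup.card_dvd_of_le le_normalizer
    rwa [hPc] at h1
  have hcm := (normalizer (P : Set K)).card_mul_index
  have hN : Nat.card (normalizer (P : Set K)) = 11 ∨ Nat.card (normalizer (P : Set K)) = 55 := by
    obtain ⟨k, hk⟩ := hNd
    rw [hk] at hNc ⊢
    have h1 : k ∣ 5 := by
      have h2 : 11 * k ∣ 11 * 5 := hNc
      exact (Nat.mul_dvd_mul_iff_left (by norm_num)).1 h2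
    rcases (Nat.dvd_prime (by norm_num)).1 h1 with rfl | rfl
    · left; norm_num
    · right; norm_num
  -- the index
  obtain ⟨n, hn⟩ : ∃ n, n = (normalizer (P : Set K)).index := ⟨_, rfl⟩
  rw [← hn] at hmod hcm
  have hn240 : n ∣ 240 := by
    have h1 : 11 * n ∣ 2640 := by
      refine Dvd.dvd.trans ?_ hKd
      rw [← hcm]
      exact Nat.mul_dvd_mul_right hNd n
    exact (Nat.mul_dvd_mul_iff_left (by norm_num : 0 < 11)).1 h1
  have hn' : n = 1 ∨ n = 12 := by
    have h1 : n ∈ Nat.divisors 240 := Nat.mem_divisors.2 ⟨hn240, by norm_num⟩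
    rw [show Nat.divisors 240 = {1, 2, 3, 4, 5, 6, 8, 10, 12, 15, 16, 20, 24, 30, 40, 48, 60, 80, 120, 240} by
      decide +kernel] at h1
    simp only [Finset.mem_insert, Finset.mem_singleton] at h1
    have h2 : n % 11 = 1 := hmod
    omega
  rcases hn' with h1 | h1
  · left
    rw [hn] at h1
    have h2 := Subgroup.index_eq_one.1 h1
    intro x hx
    exact hnle ⟨⟨x, hx⟩, by rw [h2]; trivial, rfl⟩
  · rcases hN with h2 | h2
    · exfalso
      refine no_132 (G := K) (by rw [← hcm, h1, h2]) (fun R hR => ?_) P hPc h2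
      have h3 : Nat.card (R.map K.subtype) = 11 := by
        rw [Subgroup.card_map_of_injective K.subtype_injective, hR]
      have h4 := (hcn _ h3).1
      have h5 : (centralizer (R : Set K)).map K.subtype ≤ centralizer ((R.map K.subtype : Subgroup L) : Set L) := by
        rintro _ ⟨x, hx, rfl⟩
        rw [mem_centralizer_iff]
        rintro _ ⟨y, hy, rfl⟩
        have := mem_centralizer_iff.1 hx y hy
        exact congrArg Subtype.val this
      have h6 := (Subgroup.card_dvd_of_le h5).trans h4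
      rwa [Subgroup.card_map_of_injective K.subtype_injective] at h6
    · right
      have h3 : Nat.card K = 660 := by rw [← hcm, h1, h2]
      have h4 : Nat.card ((normalizer (P : Set K)).map K.subtype) = 55 := by
        rw [Subgroup.card_map_of_injective K.subtype_injective, h2]
      have h5 : (normalizer (P : Set K)).map K.subtype = normalizer (S : Set L) :=
        Subgroup.eq_of_le_of_card_ge hnle (by rw [h4]; exact Nat.le_of_dvd (by norm_num) (hcn S hS).2)
      refine ⟨h3, ?_, ?_⟩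
      · rw [← h5]
        exact Subgroup.map_subtype_le _
      · rw [← h5, h4]

end step

/-- subgroups of prime order `p`, `p ^ 2` not dividing the order, are Sylow subgroups -/
theorem exists_sylow {G : Type*} [Group G] [Finite G] {p : ℕ} (hp : p.Prime) (h2 : ¬ p ^ 2 ∣ Nat.card G)
    {Q : Subgroup G} (hQ : Nat.card Q = p) : ∃ S : Sylow p G, (S : Subgroup G) = Q := by
  have hf : Fact p.Prime := ⟨hp⟩
  have h3 : IsPGroup p Q := IsPGroup.of_card (n := 1) (by rw [hQ, pow_one])
  obtain ⟨S, hS⟩ := h3.exists_le_sylow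
  refine ⟨S, ?_⟩
  have h4 : Nat.card S ∣ p := by
    obtain ⟨k, hk⟩ := IsPGroup.iff_card.1 S.2
    have h5 : Nat.card S ∣ Nat.card G := Subgroup.card_subgroup_dvd_card _
    rw [hk] at h5 ⊢
    have h6 : k < 2 := by
      by_contra hcon
      push Not at hcon
      exact h2 ((pow_dvd_pow p hcon).trans h5)
    interval_cases k
    · simp
    · simp
  exact (Subgroup.eq_of_le_of_card_ge hS (by rw [hQ]; exact Nat.le_of_dvd hp.pos h4)).symm

/-- conjugacy of the subgroups of prime order -/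
theorem exists_conj {G : Type*} [Group G] [Finite G] {p : ℕ} (hp : p.Prime) (h2 : ¬ p ^ 2 ∣ Nat.card G)
    {Q R : Subgroup G} (hQ : Nat.card Q = p) (hR : Nat.card R = p) : ∃ g : G, ∀ x : G, x ∈ Q ↔ g * x * g⁻¹ ∈ R := by
  have hf : Fact p.Prime := ⟨hp⟩
  obtain ⟨S, rfl⟩ := exists_sylow hp h2 hQ
  obtain ⟨T, rfl⟩ := exists_sylow hp h2 hR
  obtain ⟨g, hg⟩ := MulAction.exists_smul_eq G S T
  refine ⟨g, fun x => ?_⟩
  rw [← hg, Sylow.coe_subgroup_smul, Subgroup.mem_pointwise_smul_iff_inv_smul_mem, ← map_inv, MulAut.smul_def,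
    MulAut.conj_apply, inv_inv]
  have e : g⁻¹ * (g * x * g⁻¹) * g = x := by group
  rw [e]

/-- the products of two involutions inverting the same element of order 5 -/
theorem inv_five (hcard : ¬ 5 ^ 2 ∣ Nat.card L)
    (h5 : ∀ P : Subgroup L, Nat.card P = 5 → Nat.card (centralizer (P : Set L)) ∣ 15)
    {a₀ y₀ t₀ : L} (ha₀ : orderOf a₀ = 5) (hy₀ : orderOf y₀ = 3) (hay : a₀ * y₀ = y₀ * a₀)
    (hta : t₀ * a₀ * t₀⁻¹ = a₀⁻¹) (hty : t₀ * y₀ * t₀⁻¹ = y₀)
    {a t t' : L} (ha : orderOf a = 5) (ht : t ^ 2 = 1) (ht' : t' ^ 2 = 1) (h1 : t * a * t⁻¹ = a⁻¹)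
    (h2 : t' * a * t'⁻¹ = a⁻¹) : t * t' ∈ zpowers a := by
  obtain ⟨g, hg⟩ := exists_conj (by norm_num) hcard (Q := zpowers a) (R := zpowers a₀) (by rw [Nat.card_zpowers, ha])
    (by rw [Nat.card_zpowers, ha₀])
  set b := g * a * g⁻¹ with hb
  set u := g * t * g⁻¹ with hu
  set u' := g * t' * g⁻¹ with hu'
  have hbm : b ∈ zpowers a₀ := (hg a).1 (mem_zpowers a)
  have hbo : orderOf b = 5 := by
    have : b = (MulAut.conj g).toMonoidHom a := rfl
    rw [this, orderOf_injective _ (MulAut.conj g).injective, ha]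
  have hbz : zpowers b = zpowers a₀ :=
    Subgroup.eq_of_le_of_card_ge (by rwa [zpowers_le]) (by rw [Nat.card_zpowers, Nat.card_zpowers, ha₀, hbo])
  obtain ⟨k, hk⟩ : ∃ k : ℤ, b ^ k = a₀ := mem_zpowers_iff.1 (by rw [hbz]; exact mem_zpowers a₀)
  have key : ∀ v : L, v * a * v⁻¹ = a⁻¹ → (g * v * g⁻¹) * a₀ * (g * v * g⁻¹)⁻¹ = a₀⁻¹ := by
    intro v hv
    have h3 : (g * v * g⁻¹) * b * (g * v * g⁻¹)⁻¹ = b⁻¹ := by
      rw [hb]
      calc (g * v * g⁻¹) * (g * a * g⁻¹) * (g * v * g⁻¹)⁻¹ = g * (v * a * v⁻¹) * g⁻¹ := by group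
        _ = (g * a * g⁻¹)⁻¹ := by rw [hv]; group
    rw [← hk, ← conj_zpow, h3, inv_zpow]
  have hua := key t h1
  have hua' := key t' h2
  rw [← hu] at hua
  rw [← hu'] at hua'
  -- the centraliser
  set w := a₀ * y₀ with hw
  have hwo : orderOf w = 15 := by
    rw [hw, (show Commute a₀ y₀ from hay).orderOf_mul_eq_mul_orderOf_of_coprime (by rw [ha₀, hy₀]; decide), ha₀, hy₀]
  have hmem : ∀ x : L, x * a₀ = a₀ * x → x ∈ centralizer ((zpowers a₀ : Subgroup L) : Set L) := by
    intro x hx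
    rw [mem_centralizer_iff]
    rintro _ ⟨k, rfl⟩
    exact ((show Commute x a₀ from hx).zpow_right k).eq.symm
  have hCw : zpowers w = centralizer ((zpowers a₀ : Subgroup L) : Set L) := by
    refine Subgroup.eq_of_le_of_card_ge ?_ ?_
    · rw [zpowers_le]
      refine hmem w ?_
      rw [hw, mul_assoc, ← hay]
    · rw [Nat.card_zpowers, hwo]
      exact Nat.le_of_dvd (by norm_num) (h5 _ (by rw [Nat.card_zpowers, ha₀]))
  have hc : u * u' ∈ zpowers w := by
    rw [hCw]
    refine hmem _ ?_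
    have h3 : u' * a₀ = a₀⁻¹ * u' := by rw [← hua']; group
    have h4 : u * a₀⁻¹ = a₀ * u := by
      have : u * a₀⁻¹ * u⁻¹ = a₀ := by
        rw [← conj_inv, hua, inv_inv]
      calc u * a₀⁻¹ = (u * a₀⁻¹ * u⁻¹) * u := by group
        _ = a₀ * u := by rw [this]
    calc u * u' * a₀ = u * (u' * a₀) := by group
      _ = (u * a₀⁻¹) * u' := by rw [h3]; group
      _ = a₀ * (u * u') := by rw [h4]; group
  have hd : u * t₀⁻¹ ∈ zpowers w := by
    rw [hCw]
    refine hmem _ ?_
    have h3 : t₀⁻¹ * a₀ = a₀⁻¹ * t₀⁻¹ := by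
      have : a₀⁻¹ = t₀⁻¹ * a₀ * t₀ := by
        have h4 : t₀⁻¹ * (t₀ * a₀ * t₀⁻¹) * t₀ = t₀⁻¹ * a₀⁻¹ * t₀ := by rw [hta]
        have h5 : t₀⁻¹ * (t₀ * a₀ * t₀⁻¹) * t₀ = a₀ := by group
        rw [h5] at h4
        calc a₀⁻¹ = (t₀⁻¹ * a₀⁻¹ * t₀)⁻¹ := by rw [← h4]
          _ = t₀⁻¹ * a₀ * t₀ := by group
      rw [this]; group
    have h4 : u * a₀⁻¹ = a₀ * u := by
      have : u * a₀⁻¹ * u⁻¹ = a₀ := by
        rw [← conj_inv, hua, inv_inv]
      calc u * a₀⁻¹ = (u * a₀⁻¹ * u⁻¹) * u := by group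
        _ = a₀ * u := by rw [this]
    calc u * t₀⁻¹ * a₀ = u * (t₀⁻¹ * a₀) := by group
      _ = (u * a₀⁻¹) * t₀⁻¹ := by rw [h3]; group
      _ = a₀ * (u * t₀⁻¹) := by rw [h4]; group
  have hyw : y₀ ∈ zpowers w := by
    rw [hCw]
    exact hmem _ hay.symm
  have hcomm : ∀ x ∈ zpowers w, ∀ z ∈ zpowers w, x * z = z * x := by
    rintro _ ⟨i, rfl⟩ _ ⟨j, rfl⟩
    exact ((Commute.refl w).zpow_zpow i j).eq
  have huy : u * y₀ * u⁻¹ = y₀ := by
    have h3 : u = (u * t₀⁻¹) * t₀ := by group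
    have h4 := hcomm _ hd _ hyw
    calc u * y₀ * u⁻¹ = (u * t₀⁻¹) * (t₀ * y₀ * t₀⁻¹) * (u * t₀⁻¹)⁻¹ := by group
      _ = (u * t₀⁻¹) * y₀ * (u * t₀⁻¹)⁻¹ := by rw [hty]
      _ = y₀ := by rw [h4]; group
  obtain ⟨j, hj⟩ := hc
  have hj' : u * u' = a₀ ^ j * y₀ ^ j := by
    rw [← (show Commute a₀ y₀ from hay).mul_zpow]; exact hj.symm
  have hu2 : u * u = 1 := by
    rw [hu]
    calc g * t * g⁻¹ * (g * t * g⁻¹) = g * (t ^ 2) * g⁻¹ := by rw [pow_two]; group
      _ = 1 := by rw [ht]; group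
  have hu2' : u' * u' = 1 := by
    rw [hu']
    calc g * t' * g⁻¹ * (g * t' * g⁻¹) = g * (t' ^ 2) * g⁻¹ := by rw [pow_two]; group
      _ = 1 := by rw [ht']; group
  have hinv : u * (u * u') * u⁻¹ = (u * u')⁻¹ := by
    have e1 : u⁻¹ = u := inv_eq_of_mul_eq_one_right hu2
    have e2 : u'⁻¹ = u' := inv_eq_of_mul_eq_one_right hu2'
    calc u * (u * u') * u⁻¹ = (u * u) * (u' * u⁻¹) := by group
      _ = u' * u⁻¹ := by rw [hu2, one_mul]
      _ = u'⁻¹ * u⁻¹ := by rw [e2]
      _ = (u * u')⁻¹ := by group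
  have hconj : u * (u * u') * u⁻¹ = (a₀ ^ j)⁻¹ * y₀ ^ j := by
    rw [hj']
    calc u * (a₀ ^ j * y₀ ^ j) * u⁻¹ = (u * a₀ ^ j * u⁻¹) * (u * y₀ ^ j * u⁻¹) := by group
      _ = (a₀ ^ j)⁻¹ * y₀ ^ j := by rw [← conj_zpow, ← conj_zpow, hua, huy, inv_zpow]
  have hcz : a₀ ^ j * y₀ ^ j = y₀ ^ j * a₀ ^ j := ((show Commute a₀ y₀ from hay).zpow_zpow j j).eq
  have hyj : y₀ ^ (2 * j) = 1 := by
    have h3 : (a₀ ^ j)⁻¹ * y₀ ^ j = (a₀ ^ j)⁻¹ * (y₀ ^ j)⁻¹ := by
      rw [← hconj, hinv, hj', hcz, _root_.mul_inv_rev]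
    have h4 := mul_left_cancel h3
    rw [two_mul, zpow_add]
    calc y₀ ^ j * y₀ ^ j = (y₀ ^ j)⁻¹ * y₀ ^ j := by rw [← h4]
      _ = 1 := inv_mul_cancel _
  have h3j : (3 : ℤ) ∣ j := by
    have h3 := orderOf_dvd_iff_zpow_eq_one.2 hyj
    rw [hy₀] at h3
    push_cast at h3
    omega
  have hyj1 : y₀ ^ j = 1 := by
    apply orderOf_dvd_iff_zpow_eq_one.1
    rw [hy₀]
    exact_mod_cast h3j
  rw [hyj1, mul_one] at hj'
  rw [hg]
  have h6 : g * (t * t') * g⁻¹ = u * u' := by rw [hu, hu']; group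
  rw [h6, hj']
  exact ⟨j, rfl⟩

/-- an involution inverting an element of order 5 in a subgroup of order 660 -/
theorem exists_inv (h5 : ∀ P : Subgroup L, Nat.card P = 5 → Nat.card (centralizer (P : Set L)) ∣ 15)
    {K : Subgroup L} (hK : Nat.card K = 660) {a : L} (haK : a ∈ K) (ha : orderOf a = 5) :
    ∃ t ∈ K, orderOf t = 2 ∧ t * a * t⁻¹ = a⁻¹ := by
  have hf : Fact (Nat.Prime 5) := ⟨by norm_num⟩
  have hf2 : Fact (Nat.Prime 2) := ⟨by norm_num⟩
  set A : Subgroup K := zpowers ⟨a, haK⟩ with hA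
  have hAc : Nat.card A = 5 := by rw [hA, Nat.card_zpowers, Subgroup.orderOf_mk, ha]
  obtain ⟨P, hP⟩ := exists_sylow (G := K) (p := 5) (by norm_num) (by rw [hK]; norm_num) hAc
  have hmod := card_sylow_modEq_one 5 K
  rw [Sylow.card_eq_index_normalizer P] at hmod
  have hPA : (P : Set K) = (A : Set K) := congrArg (fun X : Subgroup K => (X : Set K)) hP
  rw [hPA] at hmod
  have hcm := (normalizer (A : Set K)).card_mul_index
  rw [hK] at hcm
  have h1 := Cfsg.Agent.H393.Sp.card_normalizer_dvd (p := 5) (by norm_num) hAc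
  have hzc : Nat.card (zpowers a) = 5 := by rw [Nat.card_zpowers, ha]
  have hAm : ∀ x : K, x ∈ A ↔ (x : L) ∈ zpowers a := by
    intro x
    rw [hA, mem_zpowers_iff, mem_zpowers_iff]
    constructor
    · rintro ⟨k, hk⟩
      exact ⟨k, congrArg Subtype.val hk⟩
    · rintro ⟨k, hk⟩
      exact ⟨k, Subtype.ext hk⟩
  have h2 : Nat.card (centralizer (A : Set K)) ∣ 15 := by
    have h3 : (centralizer (A : Set K)).map K.subtype ≤ centralizer ((zpowers a : Subgroup L) : Set L) := by
      rintro _ ⟨x, hx, rfl⟩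
      rw [mem_centralizer_iff]
      intro y hy
      have hyK : y ∈ K := (zpowers_le.2 haK) hy
      have := mem_centralizer_iff.1 hx ⟨y, hyK⟩ ((hAm _).2 hy)
      exact congrArg Subtype.val this
    have h4 := (Subgroup.card_dvd_of_le h3).trans (h5 _ hzc)
    rwa [Subgroup.card_map_of_injective K.subtype_injective] at h4
  have h60 : Nat.card (normalizer (A : Set K)) ∣ 60 := h1.trans ((Nat.mul_dvd_mul_right h2 4).trans (by norm_num))
  have heven : 2 ∣ Nat.card (normalizer (A : Set K)) := by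
    obtain ⟨m, hm⟩ : ∃ m, m = Nat.card (normalizer (A : Set K)) := ⟨_, rfl⟩
    obtain ⟨n, hn⟩ : ∃ n, n = (normalizer (A : Set K)).index := ⟨_, rfl⟩
    rw [← hm] at h60 hcm ⊢
    rw [← hn] at hcm hmod
    have h3 : m ∈ Nat.divisors 60 := Nat.mem_divisors.2 ⟨h60, by norm_num⟩
    rw [show Nat.divisors 60 = {1, 2, 3, 4, 5, 6, 10, 12, 15, 20, 30, 60} by decide +kernel] at h3
    simp only [Finset.mem_insert, Finset.mem_singleton] at h3
    have h4 : n % 5 = 1 := hmod
    rcases h3 with rfl | rfl | rfl | rfl | rfl | rfl | rfl | rfl | rfl | rfl | rfl | rfl <;> omega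
  obtain ⟨t, ht⟩ := exists_prime_orderOf_dvd_card' (G := normalizer (A : Set K)) 2 heven
  have hto : orderOf ((t : K) : L) = 2 := by rw [Subgroup.orderOf_coe, Subgroup.orderOf_coe, ht]
  refine ⟨((t : K) : L), (t : K).2, hto, ?_⟩
  set τ : L := ((t : K) : L) with hτ
  have ht2 : τ * τ = 1 := by
    have := pow_orderOf_eq_one τ
    rwa [hto, pow_two] at this
  have h3 : τ * a * τ⁻¹ ∈ zpowers a := by
    have h4 := (Subgroup.mem_normalizer_iff.1 t.2 ⟨a, haK⟩).1 (mem_zpowers _)
    exact (hAm _).1 h4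
  obtain ⟨j, hj⟩ := mem_zpowers_iff.1 h3
  have hj2 : a ^ (j * j) = a := by
    have h4 : τ * (τ * a * τ⁻¹) * τ⁻¹ = a := by
      have e : τ⁻¹ = τ := inv_eq_of_mul_eq_one_right ht2
      rw [e]
      calc τ * (τ * a * τ) * τ = (τ * τ) * a * (τ * τ) := by group
        _ = a := by rw [ht2]; group
    rw [← hj, ← conj_zpow, ← hj, ← zpow_mul] at h4
    exact h4
  have h5j : (5 : ℤ) ∣ j * j - 1 := by
    have h4 : a ^ (j * j - 1) = 1 := by rw [zpow_sub, hj2, zpow_one, mul_inv_cancel]
    have := orderOf_dvd_iff_zpow_eq_one.2 h4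
    rw [ha] at this
    exact_mod_cast this
  have h5' : (5 : ℤ) ∣ j - 1 ∨ (5 : ℤ) ∣ j + 1 := by
    have h4 : (5 : ℤ) ∣ (j - 1) * (j + 1) := by
      have e : (j - 1) * (j + 1) = j * j - 1 := by ring
      rwa [e]
    exact (Int.Prime.dvd_mul' (p := 5) (by norm_num) (by exact_mod_cast h4)).imp (fun h => by exact_mod_cast h)
      (fun h => by exact_mod_cast h)
  rcases h5' with h6 | h6
  · exfalso
    have h7 : a ^ (j - 1) = 1 := by
      apply orderOf_dvd_iff_zpow_eq_one.1
      rw [ha]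
      exact_mod_cast h6
    have h8 : a ^ j = a := by
      rw [zpow_sub, zpow_one, mul_inv_eq_one] at h7
      exact h7
    rw [h8] at hj
    have h9 : τ ∈ centralizer ((zpowers a : Subgroup L) : Set L) := by
      rw [mem_centralizer_iff]
      rintro _ ⟨k, rfl⟩
      have : Commute τ a := by
        have e : τ * a = (τ * a * τ⁻¹) * τ := by group
        show τ * a = a * τ
        rw [e, ← hj]
      exact (this.zpow_right k).eq.symm
    have h10 : orderOf τ ∣ Nat.card (centralizer ((zpowers a : Subgroup L) : Set L)) := by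
      have := orderOf_dvd_natCard (⟨τ, h9⟩ : centralizer ((zpowers a : Subgroup L) : Set L))
      rwa [Subgroup.orderOf_mk] at this
    have h11 := h10.trans (h5 _ hzc)
    rw [hto] at h11
    norm_num at h11
  · have h7 : a ^ (j + 1) = 1 := by
      apply orderOf_dvd_iff_zpow_eq_one.1
      rw [ha]
      exact_mod_cast h6
    rw [← hj]
    rw [zpow_add, zpow_one] at h7
    exact eq_inv_of_mul_eq_one_left h7

/-- **`U₅(2)`, abstractly** -/
theorem spr_of_data [IsSimpleGroup L] (hna : ∃ x y : L, x * y ≠ y * x) (hcard : Nat.card L = 13685760)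
    (h11 : ∀ M : Subgroup L, M ≠ ⊤ → 11 ∣ Nat.card M → Nat.card M ∣ 13200)
    (hR : ∃ R : Subgroup L, Nat.card R = 11 ∧ centralizer (R : Set L) = R)
    (h5 : ∀ P : Subgroup L, Nat.card P = 5 → Nat.card (centralizer (P : Set L)) ∣ 15)
    (hayt : ∃ a₀ y₀ t₀ : L, orderOf a₀ = 5 ∧ orderOf y₀ = 3 ∧ a₀ * y₀ = y₀ * a₀ ∧
      t₀ * a₀ * t₀⁻¹ = a₀⁻¹ ∧ t₀ * y₀ * t₀⁻¹ = y₀) : Spr L := by
  obtain ⟨a₀, y₀, t₀, ha₀, hy₀, hay, hta, hty⟩ := hayt
  have hf : Fact (Nat.Prime 11) := ⟨by norm_num⟩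
  have hf5 : Fact (Nat.Prime 5) := ⟨by norm_num⟩
  have hcn : ∀ P : Subgroup L, Nat.card P = 11 → Nat.card (centralizer (P : Set L)) ∣ 11 ∧
      Nat.card (normalizer (P : Set L)) ∣ 55 := by
    intro P hP
    have h := Cfsg.Agent.H251.Small.cent_norm (r := 11) (M := 5) (by norm_num) (by rw [hcard]; norm_num) hR ?_ P hP
    · exact ⟨h.1, h.2⟩
    · intro m hm _ hmod
      rw [hcard] at hmod
      have h1 : m ∈ Nat.divisors 10 := Nat.mem_divisors.2 ⟨hm, by norm_num⟩
      rw [show Nat.divisors 10 = {1, 2, 5, 10} by decide] at h1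
      simp only [Finset.mem_insert, Finset.mem_singleton] at h1
      rcases h1 with rfl | rfl | rfl | rfl
      · norm_num at hmod
      · norm_num at hmod
      · norm_num
      · norm_num at hmod
  obtain ⟨s, hs⟩ := exists_prime_orderOf_dvd_card' (G := L) 11 (by rw [hcard]; norm_num)
  have hS : Nat.card (zpowers s) = 11 := by rw [Nat.card_zpowers, hs]
  by_cases hex : ∃ K : Subgroup L, zpowers s ≤ K ∧ K ≠ ⊤ ∧ Nat.card K = 660 ∧
      normalizer ((zpowers s : Subgroup L) : Set L) ≤ K ∧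
      Nat.card (normalizer ((zpowers s : Subgroup L) : Set L)) = 55
  · obtain ⟨K, hSK, hK, hKc, hBK, hB⟩ := hex
    obtain ⟨a', ha'⟩ := exists_prime_orderOf_dvd_card' (G := normalizer ((zpowers s : Subgroup L) : Set L)) 5
      (by rw [hB]; norm_num)
    have ha : orderOf (a' : L) = 5 := by rw [Subgroup.orderOf_coe, ha']
    refine spr_of_one hna (s := s) hK fun K' hs' hK' => ?_
    have hSK' : zpowers s ≤ K' := by rwa [zpowers_le]
    rcases over_eleven hcard h11 hcn hS hSK' hK' with h1 | ⟨hKc', hBK', -⟩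
    · exact h1.trans hBK
    · obtain ⟨t, htK, hto, hta'⟩ := exists_inv h5 hKc (hBK a'.2) ha
      obtain ⟨t', htK', hto', hta''⟩ := exists_inv h5 hKc' (hBK' a'.2) ha
      have h2 := inv_five (by rw [hcard]; norm_num) h5 ha₀ hy₀ hay hta hty ha
        (by rw [← hto]; exact pow_orderOf_eq_one t) (by rw [← hto']; exact pow_orderOf_eq_one t') hta' hta''
      have h3 : t * t' ∈ K := by
        have : zpowers (a' : L) ≤ K := by rw [zpowers_le]; exact hBK a'.2
        exact this h2
      have h4 : t' ∈ K := by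
        have := K.mul_mem (K.inv_mem htK) h3
        rwa [inv_mul_cancel_left] at this
      rcases over_eleven hcard h11 hcn (K := K ⊓ K') hS (le_inf hSK hSK') (fun h => hK (by
        rw [eq_top_iff, ← h]; exact inf_le_left)) with h5 | ⟨h5, -, -⟩
      · exfalso
        have h6 : t' ∈ normalizer ((zpowers s : Subgroup L) : Set L) := h5 ⟨h4, htK'⟩
        have h7 := orderOf_dvd_natCard (⟨t', h6⟩ : normalizer ((zpowers s : Subgroup L) : Set L))
        rw [Subgroup.orderOf_mk, hto', hB] at h7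
        norm_num at h7
      · have h6 : K ⊓ K' = K' := Subgroup.eq_of_le_of_card_ge inf_le_right (by rw [h5, hKc'])
        rw [← h6]
        exact inf_le_left
  · refine spr_of_one hna (s := s) (M := normalizer ((zpowers s : Subgroup L) : Set L)) ?_ fun K' hs' hK' => ?_
    · intro htop
      have h1 := (hcn _ hS).2
      rw [htop, Subgroup.card_top, hcard] at h1
      norm_num at h1
    · have hSK' : zpowers s ≤ K' := by rwa [zpowers_le]
      rcases over_eleven hcard h11 hcn hS hSK' hK' with h1 | ⟨h1, h2, h3⟩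
      · exact h1
      · exact absurd ⟨K', hSK', hK', h1, h2, h3⟩ hex

end Cfsg.Agent.H775.Spr
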