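import Cfsg.Agent.H541.RecU52

/-!
# `U₅(2)`: elements of orders 5 and 3 and an involution (helper775, task 4833, for S3938)
-/

set_option autoImplicit false
set_option linter.unusedSectionVars false

namespace Cfsg.Agent.H775.Spr

open Cfsg Cfsg.Agent.LieClassical.HermBasic Cfsg.Agent.ClassicalGeometry.UnitTransv
open Cfsg.Agent.SporadicStructure.UnitTwo Cfsg.Agent.R01.PSUSix Cfsg.Agent.H541.RecU52
open scoped Matrix

variable {F : Type*} [Field F]

/-- the involution -/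
def T0 (F : Type*) [Field F] : SU 5 F 2 :=
  mk ((Fin.revPerm : Equiv.Perm (Fin 5)).permMatrix F) (by
    rw [Matrix.det_permutation, show Equiv.Perm.sign (Fin.revPerm : Equiv.Perm (Fin 5)) = 1 by decide]
    norm_num) (by
    intro x y
    rw [herm_def, herm_def, Matrix.permMatrix_mulVec, Matrix.permMatrix_mulVec]
    exact Equiv.sum_comp (Fin.revPerm : Equiv.Perm (Fin 5)) (fun i => x i * y i ^ 2))

theorem act_T0 (x : Fin 5 → F) : act (T0 F) x = x ∘ Fin.revPerm := by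
  rw [T0, act_mk, Matrix.permMatrix_mulVec]

theorem conj_P : T0 F * P F * (T0 F)⁻¹ = (P F)⁻¹ := by
  have h : P F * (T0 F * P F) = T0 F := by
    apply ext_act
    intro x
    rw [act_mul, act_mul, act_P, act_T0, act_P, act_T0]
    funext i
    fin_cases i <;> rfl
  rw [mul_inv_eq_iff_eq_mul, eq_inv_mul_iff_mul_eq]
  exact h

theorem conj_Y {ω : F} (h2 : (2 : F) = 0) (hω : ω ^ 2 + ω + 1 = 0) :
    T0 F * Y h2 hω * (T0 F)⁻¹ = Y h2 hω := by
  rw [mul_inv_eq_iff_eq_mul]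
  apply ext_act
  intro x
  rw [act_mul, act_mul, act_T0, act_T0, act_Y, act_Y]
  funext i
  simp only [Function.comp]
  congr 2
  exact (Equiv.sum_comp (Fin.revPerm : Equiv.Perm (Fin 5)) x).symm

theorem data_ayt [Fintype F] (hF : Fintype.card F = 2 ^ 2) :
    ∃ a₀ y₀ t₀ : PSU 5 F 2, orderOf a₀ = 5 ∧ orderOf y₀ = 3 ∧ a₀ * y₀ = y₀ * a₀ ∧
      t₀ * a₀ * t₀⁻¹ = a₀⁻¹ ∧ t₀ * y₀ * t₀⁻¹ = y₀ := by
  have h2 := two_eq_zero hF
  obtain ⟨ω, hω⟩ := exists_omega hF
  have hc : Nat.card (Subgroup.center (SU 5 F 2)) = 1 := by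
    rw [Cfsg.Agent.S0279.result hF 5 (by omega)]
    decide
  have hcb : Subgroup.center (SU 5 F 2) = ⊥ := Subgroup.card_eq_one.1 hc
  have hπ : Function.Injective (QuotientGroup.mk' (Subgroup.center (SU 5 F 2))) := by
    rw [← MonoidHom.ker_eq_bot_iff, QuotientGroup.ker_mk', hcb]
  have h5 : orderOf (P F) = 5 := by
    have : Fact (Nat.Prime 5) := ⟨by norm_num⟩
    exact orderOf_eq_prime P_five P_ne
  have h3 : orderOf (Y h2 hω) = 3 := by
    have : Fact (Nat.Prime 3) := ⟨by norm_num⟩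
    exact orderOf_eq_prime (Y_three h2 hω) (Y_ne h2 hω)
  refine ⟨QuotientGroup.mk' _ (P F), QuotientGroup.mk' _ (Y h2 hω), QuotientGroup.mk' _ (T0 F), ?_, ?_, ?_, ?_, ?_⟩
  · rw [orderOf_injective _ hπ, h5]
  · rw [orderOf_injective _ hπ, h3]
  · rw [← map_mul, ← map_mul, comm_PY]
  · rw [← map_mul, ← map_inv, ← map_mul, ← map_inv, conj_P]
  · rw [← map_mul, ← map_inv, ← map_mul, conj_Y]

end Cfsg.Agent.H775.Spr
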