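import Cfsg.Agent.H775.Spr.U5Field
import Cfsg.Agent.H775.Spr.Eleven
import Cfsg.Agent.H775.Spr.U52Dat
import Cfsg.Agent.H269.U5.Max
import Cfsg.Agent.H269.U5.Two

/-!
# 3/2-generation of `PSU₅(q)` (helper775, task 4833, for S3938)
-/

set_option autoImplicit false

namespace Cfsg.Agent.H775.Spr

open Cfsg
open Cfsg.Agent.H424.Spr (Spr)

/-- **`PSU₅(q)`, `q ≥ 2`** -/
theorem spr_psu5 {F : Type} [Field F] [Fintype F] {q : ℕ} (hF : Fintype.card F = q ^ 2) : Spr (PSU 5 F q) := by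
  have hq : 2 ≤ q := Cfsg.Agent.LieClassical.HermBasic.two_le hF
  rcases Nat.lt_or_ge 2 q with h | h
  · refine spr_ge_three hF h fun p n r hr M hM x hx m h1 h2 h3 => ?_
    exact Cfsg.Agent.H269.U5.max_ten hr (Cfsg.Agent.H269.U5.max_of_coatom hM) ⟨x, hx, rfl⟩ h1 h2 h3
  · obtain rfl : q = 2 := le_antisymm h hq
    have hcard := Cfsg.Agent.H251.Small.card_u5 hF
    have : Finite (PSU 5 F 2) := Nat.finite_of_card_ne_zero (by rw [hcard]; norm_num)
    have hsim : IsSimpleGroup (PSU 5 F 2) := Cfsg.Agent.S0283.result hF 5 (by norm_num) (by norm_num)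
    exact spr_of_data exists_ne_of_quot hcard (fun M hM h11 => Cfsg.Agent.H269.U5.psu52_eleven hF hM h11)
      (Cfsg.Agent.H251.Small.selfcent_u5 hF) (fun P hP => Cfsg.Agent.H251.Der.cent_five hF hP) (data_ayt hF)

end Cfsg.Agent.H775.Spr
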