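import Cfsg.Agent.H424.Spr.Two
import Cfsg.Agent.H269.U5.Kill
import Cfsg.Agent.H269.U5.ExistA
import Cfsg.Agent.S0283

/-!
# `PSU₅(q)`, `q ≥ 3`: 3/2-generation (helper775, task 4833, for S3938)

`a ∈ SU₅(q)` of prime power order `r ^ (m + 1)`, `r` a primitive prime divisor of `q^10 - 1`: every proper subgroup
containing `a` normalises the field `F[a]`.
-/

set_option autoImplicit false
set_option linter.unusedSectionVars false

namespace Cfsg.Agent.H775.Spr

open Cfsg Cfsg.Geo Cfsg.Agent.H918 Cfsg.Agent.H269.U5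
open Cfsg.Agent.H424.Spr (Spr spr_of_one_up)
open scoped MatrixGroups Matrix

/-- a simple central quotient is not commutative -/
theorem exists_ne_of_quot {H : Type*} [Group H] [hs : IsSimpleGroup (H ⧸ Subgroup.center H)] :
    ∃ x y : H ⧸ Subgroup.center H, x * y ≠ y * x := by
  by_contra hc
  push Not at hc
  let _ : CommGroup (H ⧸ Subgroup.center H) :=
    { (inferInstance : Group (H ⧸ Subgroup.center H)) with mul_comm := hc }
  have hcyc : IsCyclic (H ⧸ Subgroup.center H) := IsSimpleGroup.isCyclic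
  have h1 : ∀ a b : H, a * b = b * a := fun a b =>
    commutative_of_cyclic_center_quotient (QuotientGroup.mk' (Subgroup.center H)) (by rw [QuotientGroup.ker_mk']) a b
  obtain ⟨x, hx⟩ := exists_ne (1 : H ⧸ Subgroup.center H)
  obtain ⟨a, rfl⟩ := QuotientGroup.mk_surjective x
  exact hx ((QuotientGroup.eq_one_iff a).2 (Subgroup.mem_center_iff.2 fun b => h1 b a))

/-- two fields of degree 5 normalised by an element of prime order `r ≠ 5` that is not scalar coincide -/
theorem field_eq {F : Type*} [Field F] [Fintype F] {K K' : Subalgebra F (Matrix (Fin 5) (Fin 5) F)}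
    (hK : IsFieldSubalgebra 5 K) (hK' : IsFieldSubalgebra 5 K') {p n q r : ℕ} (h : PN F p n q 10 r)
    {s : GL (Fin 5) F} (hs : s ^ r = 1) (hs1 : s ≠ 1) (h1 : s ∈ subalgebraNormalizer K)
    (h2 : s ∈ subalgebraNormalizer K') : K = K' := by
  have hger := h.ger
  have hns : ∀ c : F, ((s ^ 5 : GL (Fin 5) F) : Matrix (Fin 5) (Fin 5) F) ≠ c • (1 : Matrix (Fin 5) (Fin 5) F) := by
    intro c hc
    refine no_scalar h (by norm_num) (x := s ^ 5) ?_ ?_ ⟨c, hc⟩
    · rw [← pow_mul, mul_comm, pow_mul, hs, one_pow]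
    · refine pow_ne_one h.pr hs hs1 fun h5 => ?_
      have := (Nat.prime_dvd_prime_iff_eq h.pr (by norm_num)).1 h5
      omega
  have key : ∀ K K' : Subalgebra F (Matrix (Fin 5) (Fin 5) F), IsFieldSubalgebra 5 K → IsFieldSubalgebra 5 K' →
      s ∈ subalgebraNormalizer K → s ∈ subalgebraNormalizer K' → K ≤ K' := by
    intro K K' hK hK' h1 h2 g hg
    refine Cfsg.Agent.H915.mem_of_commute hp5 (Cfsg.Agent.H269.U5.hK' hK') (pow_five_mem hK' h2) hns ?_
    exact hK.comm _ hg _ (pow_five_mem hK h1)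
  exact le_antisymm (key K K' hK hK' h1 h2) (key K' K hK' hK h2 h1)

variable {F : Type} [Field F] [Fintype F] {q : ℕ}

/-- **`PSU₅(q)`, `q ≥ 3`**, from the maximal subgroups over elements of order `r ^ (m + 1)` -/
theorem spr_ge_three (hF : Fintype.card F = q ^ 2) (hq : 3 ≤ q)
    (hmax : ∀ (p n r : ℕ), PN F p n q 10 r → ∀ (M : Subgroup (Cfsg.SU 5 F q)), IsCoatom M →
      ∀ x ∈ M, ∀ m : ℕ, orderOf (suHom 5 F q x) = r ^ (m + 1) → ¬ orderOf (suHom 5 F q x) ∣ 13200 →
        ¬ orderOf (suHom 5 F q x) ∣ 51840 →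
      ∃ K : Subalgebra F (Matrix (Fin 5) (Fin 5) F), IsFieldSubalgebra 5 K ∧
        M.map (suHom 5 F q) ≤ subalgebraNormalizer K) : Spr (PSU 5 F q) := by
  obtain ⟨p, n, hp, hn, hqp, hchar⟩ := exists_base hF
  obtain ⟨r, hr, a, m, hao, ha1, ha2⟩ := exists_A hF hq hp hn hqp
  have hfin : Finite (Cfsg.SU 5 F q) := inferInstance
  have hsim : IsSimpleGroup (PSU 5 F q) := Cfsg.Agent.S0283.result hF 5 (by norm_num) (by norm_num)
  have hna : ∃ x y : PSU 5 F q, x * y ≠ y * x := exists_ne_of_quot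
  have hger := hr.ger
  have hyo : orderOf (suHom 5 F q a) = r ^ (m + 1) := by rw [orderOf_suHom, hao]
  set y := suHom 5 F q a with hy
  have hso : orderOf (y ^ r ^ m) = r := by
    rw [orderOf_pow_of_dvd (pow_ne_zero _ hr.pr.ne_zero) (by rw [hyo, pow_succ]; exact dvd_mul_right _ _), hyo, pow_succ,
      Nat.mul_div_cancel_left _ (pow_pos hr.pr.pos _)]
  have hs : (y ^ r ^ m) ^ r = 1 := by
    have h3 := pow_orderOf_eq_one (y ^ r ^ m)
    rwa [hso] at h3
  have hs1 : y ^ r ^ m ≠ 1 := ne_one_of_order hr.pr hso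
  -- the maximal subgroups over `a`
  have hcase : ∀ M : Subgroup (Cfsg.SU 5 F q), IsCoatom M → a ∈ M →
      ∃ K : Subalgebra F (Matrix (Fin 5) (Fin 5) F), IsFieldSubalgebra 5 K ∧
        M.map (suHom 5 F q) ≤ subalgebraNormalizer K := by
    intro M hM haM
    refine hmax p n r hr M hM a haM m hyo ?_ ?_
    · rw [orderOf_suHom]; exact ha1
    · rw [orderOf_suHom]; exact ha2
  -- an involution
  obtain ⟨t, ht⟩ : ∃ t : Cfsg.SU 5 F q, orderOf t = 2 := by
    by_cases hp2 : p = 2
    · obtain ⟨rB, hB⟩ := exists_PN hF hp hn hqp (k := 6) (by norm_num) (by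
        rintro ⟨h2, h6⟩
        have : n = 1 := by omega
        rw [h2, this] at hqp
        omega)
      obtain ⟨b, hb⟩ := exists_B hB
      refine ⟨b ^ rB, ?_⟩
      rw [orderOf_pow_of_dvd hB.pr.ne_zero (by rw [hb]; exact dvd_mul_right _ _), hb,
        Nat.mul_div_cancel_left _ hB.pr.pos, hp2]
    · obtain ⟨rC, hC⟩ := exists_PN hF hp hn hqp (k := 4) (by norm_num) (by rintro ⟨-, h6⟩; omega)
      obtain ⟨c, hc⟩ := exists_C hC hp2
      refine ⟨c ^ rC, ?_⟩
      rw [orderOf_pow_of_dvd hC.pr.ne_zero (by rw [hc]; exact dvd_mul_right _ _), hc,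
        Nat.mul_div_cancel_left _ hC.pr.pos]
  have hker : (QuotientGroup.mk' (Subgroup.center (Cfsg.SU 5 F q))).ker = Subgroup.center (Cfsg.SU 5 F q) :=
    QuotientGroup.ker_mk' _
  by_cases hex : ∃ K₀ : Subgroup (Cfsg.SU 5 F q), Subgroup.center (Cfsg.SU 5 F q) ≤ K₀ ∧ a ∈ K₀ ∧ K₀ ≠ ⊤
  · obtain ⟨K₀, hcK, haK, hK⟩ := hex
    obtain ⟨M, hM, hKM⟩ := (eq_top_or_exists_le_coatom K₀).resolve_left hK
    obtain ⟨E, hE, hME⟩ := hcase M hM (hKM haK)
    have hsE : y ^ r ^ m ∈ subalgebraNormalizer E := Subgroup.pow_mem _ (hME ⟨a, hKM haK, rfl⟩) _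
    -- the normaliser of the field is proper
    have hne : (subalgebraNormalizer E).comap (suHom 5 F q) ≠ ⊤ := by
      intro htop
      have htE : suHom 5 F q t ∈ subalgebraNormalizer E := by
        have : t ∈ (subalgebraNormalizer E).comap (suHom 5 F q) := by rw [htop]; trivial
        exact this
      have hto : orderOf (suHom 5 F q t) = 2 := by rw [orderOf_suHom, ht]
      have h1 := no_invol hE htE (by
        have h3 := pow_orderOf_eq_one (suHom 5 F q t)
        rwa [hto] at h3) (mem_SUg.1 (suHom_mem t)).2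
      rw [h1, orderOf_one] at hto
      omega
    have hall : ∀ N : Subgroup (Cfsg.SU 5 F q), IsCoatom N → a ∈ N →
        N ≤ (subalgebraNormalizer E).comap (suHom 5 F q) := by
      intro N hN haN
      obtain ⟨E', hE', hNE⟩ := hcase N hN haN
      have hEE : E = E' := field_eq hE hE' hr hs hs1 hsE
        (Subgroup.pow_mem _ (hNE ⟨a, haN, rfl⟩) _)
      rw [hEE]
      exact Subgroup.map_le_iff_le_comap.1 hNE
    refine spr_of_one_up hna (QuotientGroup.mk' (Subgroup.center (Cfsg.SU 5 F q))) (QuotientGroup.mk'_surjective _)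
      (s := a) (M := (subalgebraNormalizer E).comap (suHom 5 F q)) ?_ hne ?_
    · rw [hker]
      exact (hcK.trans hKM).trans (hall M hM (hKM haK))
    · intro K _ haK hK
      obtain ⟨N, hN, hKN⟩ := (eq_top_or_exists_le_coatom K).resolve_left hK
      exact hKN.trans (hall N hN (hKN haK))
  · push Not at hex
    refine spr_of_one_up hna (QuotientGroup.mk' (Subgroup.center (Cfsg.SU 5 F q))) (QuotientGroup.mk'_surjective _)
      (s := a) (M := Subgroup.center (Cfsg.SU 5 F q)) ?_ ?_ ?_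
    · rw [hker]
    · intro htop
      obtain ⟨x, hx⟩ := exists_ne (1 : PSU 5 F q)
      obtain ⟨b, rfl⟩ := QuotientGroup.mk_surjective x
      exact hx ((QuotientGroup.eq_one_iff b).2 (by rw [htop]; trivial))
    · intro K hcK haK hK
      rw [hker] at hcK
      exact absurd (hex K hcK haK) hK

end Cfsg.Agent.H775.Spr
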